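import Mathlib

/-! Deformations of separable algebras and of their homomorphisms along square-zero ideals. -/

set_option autoImplicit false
universe u

open TensorProduct

namespace Groth.Agent.AzLiftLib

variable {C : Type u} [CommRing C] (J : Ideal C)
  {M N : Type u} [AddCommGroup M] [Module C M] [AddCommGroup N] [Module C N]

/-- Congruence modulo `J`. -/
abbrev Sm (x : M) : Prop := x ∈ (J • ⊤ : Submodule C M)

theorem map_sm (f : M →ₗ[C] N) {x : M} (hx : Sm J x) : Sm J (f x) := by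
  have := Submodule.mem_map_of_mem (f := f) hx
  rw [Submodule.map_smul''] at this
  exact Submodule.smul_mono le_rfl le_top this

theorem kills (hJ : J * J = ⊥) (f : M →ₗ[C] N) (hf : ∀ x, Sm J (f x)) {x : M} (hx : Sm J x) :
    f x = 0 := by
  refine Submodule.smul_induction_on hx (fun j hj m _ => ?_) fun a b ha hb => ?_
  ·
    have : j • f m ∈ (J * J) • (⊤ : Submodule C N) := by
      rw [Submodule.mul_smul]
      exact Submodule.smul_mem_smul hj (hf m)
    rwa [hJ, Submodule.bot_smul, Submodule.mem_bot, ← map_smul] at this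
  · rw [map_add, ha, hb, add_zero]

theorem mul_left_sm (μ : N →ₗ[C] N →ₗ[C] N) {a : N} (ha : Sm J a) (b : N) : Sm J (μ a b) :=
  map_sm J (μ.flip b) ha

theorem mul_right_sm (μ : N →ₗ[C] N →ₗ[C] N) (a : N) {b : N} (hb : Sm J b) : Sm J (μ a b) :=
  map_sm J (μ a) hb

theorem mul_sm_sm (hJ : J * J = ⊥) (μ : N →ₗ[C] N →ₗ[C] N) {a b : N} (ha : Sm J a) (hb : Sm J b) :
    μ a b = 0 :=
  kills J hJ (μ.flip b) (fun x => mul_right_sm J μ x hb) ha

theorem end_sm {ι : Type*} [Fintype ι] (b : Module.Basis ι C M) (D : M →ₗ[C] N)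
    (h : ∀ m, Sm J (D m)) : Sm J D := by
  classical
  have : D = ∑ i, LinearMap.smulRightₗ (b.coord i) (D (b i)) := by
    apply b.ext
    intro j
    simp [LinearMap.sum_apply, Finsupp.single_apply]
  rw [this]
  exact Submodule.sum_mem _ fun i _ => map_sm J _ (h _)

/-- The associator. -/
def assoc (μ : M →ₗ[C] M →ₗ[C] M) : M →ₗ[C] M →ₗ[C] M →ₗ[C] M :=
  LinearMap.mk₂ C (fun a b => μ (μ a b) - (μ a).comp (μ b))
    (fun a a' b => by ext; simp; abel)
    (fun r a b => by ext; simp [smul_sub])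
    (fun a b b' => by ext; simp; abel)
    (fun r a b => by ext; simp [smul_sub])

@[simp] theorem assoc_apply (μ : M →ₗ[C] M →ₗ[C] M) (a b c : M) :
    assoc μ a b c = μ (μ a b) c - μ a (μ b c) := rfl

/-- `x ⊗ y ↦ (a ↦ (x a) y)`. -/
noncomputable def theta (μ : M →ₗ[C] M →ₗ[C] M) : M ⊗[C] M →ₗ[C] Module.End C M :=
  TensorProduct.lift (LinearMap.mk₂ C (fun x y => (μ.flip y).comp (μ x))
    (fun a a' b => by ext; simp)
    (fun r a b => by ext; simp)
    (fun a b b' => by ext; simp)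
    (fun r a b => by ext; simp))

@[simp] theorem theta_tmul (μ : M →ₗ[C] M →ₗ[C] M) (x y a : M) :
    theta μ (x ⊗ₜ y) a = μ (μ x a) y := rfl

/-- Separability data modulo `J`: a unit `u` and a separability element. -/
structure SepData (μ : M →ₗ[C] M →ₗ[C] M) where
  u : M
  S : Finset (M × M)
  left : ∀ a, Sm J (μ u a - a)
  right : ∀ a, Sm J (μ a u - a)
  sum : Sm J ((∑ p ∈ S, μ p.1 p.2) - u)
  bal : ∀ b, Sm J ((∑ p ∈ S, (μ b p.1) ⊗ₜ[C] p.2) - ∑ p ∈ S, p.1 ⊗ₜ[C] (μ p.2 b))

theorem exists_sepData {ι : Type*} [Fintype ι] [Nonempty ι] (e : Module.Basis ι C M)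
    (μ : M →ₗ[C] M →ₗ[C] M) (hass : ∀ a b c, Sm J (assoc μ a b c))
    (hθ : Function.Bijective (theta μ)) (v : M) (hl : Function.Bijective (μ v))
    (hr : Function.Bijective (μ.flip v)) : Nonempty (SepData J μ) := by
  classical
  obtain ⟨u, hu⟩ := hl.2 v
  have hleft : ∀ a, Sm J (μ u a - a) := by
    intro a
    have h1 : Sm J (μ v (μ u a - a)) := by
      rw [map_sub]
      have := neg_mem (hass v u a)
      rwa [assoc_apply, hu, neg_sub] at this
    have := map_sm J (LinearEquiv.ofBijective (μ v) hl).symm.toLinearMap h1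
    rwa [LinearEquiv.coe_coe, ← LinearEquiv.ofBijective_apply (μ v) (hf := hl),
      LinearEquiv.symm_apply_apply] at this
  have hright : ∀ a, Sm J (μ a u - a) := by
    intro a
    obtain ⟨y, rfl⟩ := hr.2 a
    have := hass y v u
    rwa [assoc_apply, hu] at this
  obtain ⟨j0⟩ := ‹Nonempty ι›
  let t : M →ₗ[C] C := (e.coord j0).comp (μ.flip (e j0))
  have htu : t u - 1 ∈ J := by
    have := map_sm J (e.coord j0) (hleft (e j0))
    rw [Sm, smul_eq_mul, Ideal.mul_top, map_sub, Module.Basis.coord_apply, Module.Basis.coord_apply,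
      e.repr_self, Finsupp.single_eq_same] at this
    exact this
  obtain ⟨W, hW⟩ := hθ.2 (t.smulRight u)
  obtain ⟨S, rfl⟩ := TensorProduct.exists_finset W
  have hWa : ∀ a, ∑ p ∈ S, μ (μ p.1 a) p.2 = t a • u := fun a => by
    simpa [LinearMap.sum_apply] using LinearMap.congr_fun hW a
  refine ⟨⟨u, S, hleft, hright, ?_, fun b => ?_⟩⟩
  · have h1 : Sm J ((∑ p ∈ S, μ (μ p.1 u) p.2) - ∑ p ∈ S, μ p.1 p.2) := by
      rw [← Finset.sum_sub_distrib]
      refine Submodule.sum_mem _ fun p _ => ?_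
      rw [← LinearMap.sub_apply, ← map_sub]
      exact mul_left_sm J μ (hright p.1) p.2
    have h2 : Sm J ((∑ p ∈ S, μ (μ p.1 u) p.2) - u) := by
      rw [hWa, show t u • u - u = (t u - 1) • u by rw [sub_smul, one_smul]]
      exact Submodule.smul_mem_smul htu Submodule.mem_top
    convert Submodule.sub_mem _ h2 h1 using 1
    abel
  · have key : Sm J (theta μ ((∑ p ∈ S, (μ b p.1) ⊗ₜ[C] p.2) - ∑ p ∈ S, p.1 ⊗ₜ[C] (μ p.2 b))) := by
      refine end_sm J e _ fun a => ?_
      simp only [map_sub, map_sum, LinearMap.sub_apply, LinearMap.sum_apply, theta_tmul]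
      have h1 : Sm J ((∑ p ∈ S, μ (μ (μ b p.1) a) p.2) - μ b (∑ p ∈ S, μ (μ p.1 a) p.2)) := by
        rw [map_sum, ← Finset.sum_sub_distrib]
        refine Submodule.sum_mem _ fun p _ => ?_
        convert Submodule.add_mem _ (mul_left_sm J μ (hass b p.1 a) p.2) (hass b (μ p.1 a) p.2) using 1
        simp
      have h2 : Sm J ((∑ p ∈ S, μ (μ p.1 a) (μ p.2 b)) - μ (∑ p ∈ S, μ (μ p.1 a) p.2) b) := by
        simp only [map_sum, LinearMap.sum_apply, ← Finset.sum_sub_distrib]
        refine Submodule.sum_mem _ fun p _ => ?_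
        convert neg_mem (hass (μ p.1 a) p.2 b) using 1
        simp
      have h3 : Sm J (μ b (∑ p ∈ S, μ (μ p.1 a) p.2) - μ (∑ p ∈ S, μ (μ p.1 a) p.2) b) := by
        rw [hWa, map_smul, map_smul, LinearMap.smul_apply, ← smul_sub]
        refine Submodule.smul_mem _ _ ?_
        convert Submodule.sub_mem _ (hright b) (hleft b) using 1
        abel
      convert Submodule.add_mem _ h1 (Submodule.sub_mem _ h3 h2) using 1
      abel
    have := map_sm J (LinearEquiv.ofBijective (theta μ) hθ).symm.toLinearMap key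
    rwa [LinearEquiv.coe_coe, ← LinearEquiv.ofBijective_apply (theta μ) (hf := hθ),
      LinearEquiv.symm_apply_apply] at this

/-- An algebra which is associative and separable modulo a square-zero ideal deforms to an
associative one. -/
theorem exists_assoc (hJ : J * J = ⊥) (μ : M →ₗ[C] M →ₗ[C] M)
    (hass : ∀ a b c, Sm J (assoc μ a b c)) (D : SepData J μ) :
    ∃ h : M →ₗ[C] M →ₗ[C] M, (∀ a b, Sm J (h a b)) ∧ ∀ a b c, assoc (μ + h) a b c = 0 := by
  classical
  let F := assoc μ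
  let h : M →ₗ[C] M →ₗ[C] M := ∑ p ∈ D.S, (F p.2).compr₂ (μ p.1)
  have hdef : ∀ b c, h b c = ∑ p ∈ D.S, μ p.1 (F p.2 b c) := fun b c => by
    simp [h, LinearMap.sum_apply]
  have hh : ∀ b c, Sm J (h b c) := fun b c => by
    rw [hdef]
    exact Submodule.sum_mem _ fun p _ => mul_right_sm J μ _ (hass _ _ _)
  refine ⟨h, hh, fun b c d => ?_⟩
  have e0 : ∀ a : M, μ a (F b c d) - F (μ a b) c d + F a (μ b c) d - F a b (μ c d) + μ (F a b c) d = 0 := by
    intro a
    simp only [F, assoc_apply, map_sub, LinearMap.sub_apply]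
    abel
  have e1 : ∑ p ∈ D.S, μ p.1 (μ p.2 (F b c d)) = F b c d := by
    have a1 : ∑ p ∈ D.S, μ p.1 (μ p.2 (F b c d)) = μ (∑ p ∈ D.S, μ p.1 p.2) (F b c d) := by
      rw [map_sum, LinearMap.sum_apply]
      refine Finset.sum_congr rfl fun p _ => (sub_eq_zero.mp ?_).symm
      exact kills J hJ (assoc μ p.1 p.2) (fun x => hass _ _ x) (hass b c d)
    have a2 : μ ((∑ p ∈ D.S, μ p.1 p.2) - D.u) (F b c d) = 0 := mul_sm_sm J hJ μ D.sum (hass b c d)
    have a3 : (μ D.u - (LinearMap.id : M →ₗ[C] M)) (F b c d) = 0 := kills J hJ _ (fun x => D.left x) (hass b c d)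
    rw [map_sub, LinearMap.sub_apply, sub_eq_zero] at a2
    rw [LinearMap.sub_apply, LinearMap.id_apply, sub_eq_zero] at a3
    rw [a1, a2, a3]
  have e2 : ∑ p ∈ D.S, μ p.1 (F (μ p.2 b) c d) = μ b (h c d) := by
    have a1 : TensorProduct.lift (μ.compl₂ ((F.flip c).flip d |>.comp LinearMap.id))
        ((∑ p ∈ D.S, (μ b p.1) ⊗ₜ[C] p.2) - ∑ p ∈ D.S, p.1 ⊗ₜ[C] (μ p.2 b)) = 0 := by
      refine kills J hJ _ (fun z => ?_) (D.bal b)
      induction z using TensorProduct.induction_on with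
      | zero => rw [map_zero]; exact zero_mem _
      | tmul x y => exact mul_right_sm J μ _ (hass _ _ _)
      | add x y hx hy => rw [map_add]; exact add_mem hx hy
    simp only [map_sub, map_sum, TensorProduct.lift.tmul, LinearMap.compl₂_apply, LinearMap.comp_apply,
      LinearMap.id_apply, LinearMap.flip_apply, sub_eq_zero] at a1
    rw [← a1, hdef, map_sum]
    refine Finset.sum_congr rfl fun p _ => ?_
    rw [← sub_eq_zero]
    exact kills J hJ (assoc μ b p.1) (fun x => hass _ _ x) (hass p.2 c d)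
  have e3 : ∑ p ∈ D.S, μ p.1 (μ (F p.2 b c) d) = μ (h b c) d := by
    rw [hdef, map_sum, LinearMap.sum_apply]
    refine Finset.sum_congr rfl fun p _ => (sub_eq_zero.mp ?_).symm
    exact kills J hJ ((assoc μ p.1).flip d) (fun x => hass _ x _) (hass p.2 b c)
  have key : F b c d - μ b (h c d) + h (μ b c) d - h b (μ c d) + μ (h b c) d = 0 := by
    rw [← e1, ← e2, ← e3, hdef (μ b c) d, hdef b (μ c d), ← Finset.sum_sub_distrib,
      ← Finset.sum_add_distrib, ← Finset.sum_sub_distrib, ← Finset.sum_add_distrib]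
    refine Finset.sum_eq_zero fun p _ => ?_
    rw [← map_sub, ← map_add, ← map_sub, ← map_add, e0, map_zero]
  have hz1 : h (h b c) d = 0 := kills J hJ (h.flip d) (fun x => hh x d) (hh b c)
  have hz2 : h b (h c d) = 0 := kills J hJ (h b) (fun x => hh b x) (hh c d)
  simp only [assoc_apply, LinearMap.add_apply, map_add, hz1, hz2, add_zero]
  simp only [F, assoc_apply] at key
  rw [← key]
  abel

/-- A map of algebras which is multiplicative modulo a square-zero ideal deforms to a multiplicative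
one if the source is separable. -/
theorem exists_mulHom (hJ : J * J = ⊥) (μ : M →ₗ[C] M →ₗ[C] M) (ν : N →ₗ[C] N →ₗ[C] N)
    (hμ : ∀ a b c, assoc μ a b c = 0) (hν : ∀ a b c, assoc ν a b c = 0) (D : SepData J μ)
    (g : M →ₗ[C] N) (hg : Function.Surjective g)
    (hmul : ∀ a b, Sm J (g (μ a b) - ν (g a) (g b))) :
    ∃ h : M →ₗ[C] N, (∀ a, Sm J (h a)) ∧ ∀ a b, (g + h) (μ a b) = ν ((g + h) a) ((g + h) b) := by
  classical
  let E : M →ₗ[C] M →ₗ[C] N := μ.compr₂ g - (ν.compl₁₂ g g)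
  have hE : ∀ a b, E a b = g (μ a b) - ν (g a) (g b) := fun a b => rfl
  have hEs : ∀ a b, Sm J (E a b) := hmul
  let h : M →ₗ[C] N := ∑ p ∈ D.S, (ν (g p.1)).comp (E p.2)
  have hdef : ∀ b, h b = ∑ p ∈ D.S, ν (g p.1) (E p.2 b) := fun b => by simp [h, LinearMap.sum_apply]
  have hh : ∀ b, Sm J (h b) := fun b => by
    rw [hdef]
    exact Submodule.sum_mem _ fun p _ => mul_right_sm J ν _ (hEs _ _)
  have ha : ∀ x y z, ν (ν x y) z = ν x (ν y z) := fun x y z => sub_eq_zero.mp (hν x y z)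
  have ha' : ∀ x y z, μ (μ x y) z = μ x (μ y z) := fun x y z => sub_eq_zero.mp (hμ x y z)
  refine ⟨h, hh, fun b c => ?_⟩
  have e0 : ∀ a, ν (g a) (E b c) - E (μ a b) c + E a (μ b c) - ν (E a b) (g c) = 0 := by
    intro a
    simp only [hE, map_sub, LinearMap.sub_apply, ha, ha']
    abel
  have e1 : ∑ p ∈ D.S, ν (g p.1) (ν (g p.2) (E b c)) = E b c := by
    have a1 : ν ((∑ p ∈ D.S, ν (g p.1) (g p.2)) - g D.u) (E b c) = 0 := by
      refine mul_sm_sm J hJ ν ?_ (hEs b c)
      convert Submodule.sub_mem _ (map_sm J g D.sum)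
        (Submodule.sum_mem _ fun p (_ : p ∈ D.S) => hEs p.1 p.2) using 1
      simp only [map_sub, map_sum, hE, Finset.sum_sub_distrib]
      abel
    have a2 : (ν (g D.u) - (LinearMap.id : N →ₗ[C] N)) (E b c) = 0 := by
      refine kills J hJ _ (fun n => ?_) (hEs b c)
      obtain ⟨a, rfl⟩ := hg n
      convert Submodule.sub_mem _ (map_sm J g (D.left a)) (hEs D.u a) using 1
      simp [hE]
    rw [map_sub, LinearMap.sub_apply, sub_eq_zero, map_sum, LinearMap.sum_apply] at a1
    rw [LinearMap.sub_apply, LinearMap.id_apply, sub_eq_zero] at a2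
    simp only [← ha]
    rw [a1, a2]
  have e2 : ∑ p ∈ D.S, ν (g p.1) (E (μ p.2 b) c) = ν (g b) (h c) := by
    have a1 : TensorProduct.lift ((ν.comp g).compl₂ (E.flip c))
        ((∑ p ∈ D.S, (μ b p.1) ⊗ₜ[C] p.2) - ∑ p ∈ D.S, p.1 ⊗ₜ[C] (μ p.2 b)) = 0 := by
      refine kills J hJ _ (fun z => ?_) (D.bal b)
      induction z using TensorProduct.induction_on with
      | zero => rw [map_zero]; exact zero_mem _
      | tmul x y => exact mul_right_sm J ν _ (hEs _ _)
      | add x y hx hy => rw [map_add]; exact add_mem hx hy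
    simp only [map_sub, map_sum, TensorProduct.lift.tmul, LinearMap.compl₂_apply, LinearMap.comp_apply,
      LinearMap.flip_apply, sub_eq_zero] at a1
    rw [← a1, hdef, map_sum]
    refine Finset.sum_congr rfl fun p _ => ?_
    rw [← ha, ← sub_eq_zero, ← LinearMap.sub_apply, ← map_sub]
    exact mul_sm_sm J hJ ν (hEs b p.1) (hEs p.2 c)
  have e3 : ∑ p ∈ D.S, ν (g p.1) (ν (E p.2 b) (g c)) = ν (h b) (g c) := by
    rw [hdef, map_sum, LinearMap.sum_apply]
    exact Finset.sum_congr rfl fun p _ => (ha _ _ _).symm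
  have key : E b c - ν (g b) (h c) + h (μ b c) - ν (h b) (g c) = 0 := by
    rw [← e1, ← e2, ← e3, hdef (μ b c), ← Finset.sum_sub_distrib, ← Finset.sum_add_distrib,
      ← Finset.sum_sub_distrib]
    refine Finset.sum_eq_zero fun p _ => ?_
    rw [← map_sub, ← map_add, ← map_sub, e0, map_zero]
  have hz : ν (h b) (h c) = 0 := mul_sm_sm J hJ ν (hh b) (hh c)
  simp only [LinearMap.add_apply, map_add, hz, add_zero]
  rw [hE] at key
  rw [← sub_eq_zero, ← key]
  abel

end Groth.Agent.AzLiftLib
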