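import Mathlib
import Groth.Agent.AzLiftLib.Deform
import Groth.Agent.Hensel.Lift

/-! Structure constants: the schemes of separable algebra structures and of their isomorphisms are
smooth, so that points lift over a henselian local ring. -/

set_option autoImplicit false
universe u

open TensorProduct

namespace Groth.Agent.AzLiftLib

theorem mulVec_bijective_iff {n : Type*} [Fintype n] [DecidableEq n] {R : Type*} [CommRing R]
    (A : Matrix n n R) : Function.Bijective A.mulVec ↔ IsUnit A :=
  ⟨fun h => Matrix.mulVec_surjective_iff_isUnit.mp h.2, fun h =>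
    OrzechProperty.bijective_of_surjective_endomorphism A.mulVecLin (Matrix.mulVec_surjective_iff_isUnit.2 h)⟩

variable {ι : Type} [Fintype ι] [DecidableEq ι] {C D : Type u} [CommRing C] [CommRing D]

/-- The bilinear product with structure constants `c`. -/
def mulC (c : ι → ι → ι → C) : (ι → C) →ₗ[C] (ι → C) →ₗ[C] (ι → C) :=
  LinearMap.mk₂ C (fun x y k => ∑ i, ∑ j, x i * y j * c i j k)
    (fun a a' b => by ext k; simp [add_mul, Finset.sum_add_distrib])
    (fun r a b => by ext k; simp [Finset.mul_sum, mul_assoc])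
    (fun a b b' => by ext k; simp [mul_add, add_mul, Finset.sum_add_distrib])
    (fun r a b => by ext k; simp [Finset.mul_sum, mul_assoc, mul_left_comm])

theorem mulC_apply (c : ι → ι → ι → C) (x y : ι → C) (k : ι) :
    mulC c x y k = ∑ i, ∑ j, x i * y j * c i j k := rfl

@[simp] theorem mulC_single (c : ι → ι → ι → C) (i j : ι) :
    mulC c (Pi.single i 1) (Pi.single j 1) = c i j := by
  ext k
  simp [mulC_apply, Pi.single_apply]

theorem eq_mulC (μ : (ι → C) →ₗ[C] (ι → C) →ₗ[C] (ι → C)) :
    mulC (fun i j => μ (Pi.single i 1) (Pi.single j 1)) = μ :=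
  (Pi.basisFun C ι).ext fun i => (Pi.basisFun C ι).ext fun j => by simp

theorem mulC_map (φ : C →+* D) (c : ι → ι → ι → C) (x y : ι → C) :
    φ ∘ mulC c x y = mulC (fun i j k => φ (c i j k)) (φ ∘ x) (φ ∘ y) := by
  ext k
  simp [mulC_apply, map_sum]

theorem comp_single (φ : C →+* D) (i : ι) : φ ∘ (Pi.single i (1 : C) : ι → C) = Pi.single i 1 := by
  ext j
  by_cases h : j = i <;> simp [h]

theorem assoc_map (φ : C →+* D) (c : ι → ι → ι → C) (x y z : ι → C) :
    φ ∘ assoc (mulC c) x y z = assoc (mulC fun i j k => φ (c i j k)) (φ ∘ x) (φ ∘ y) (φ ∘ z) := by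
  rw [assoc_apply, assoc_apply, ← mulC_map, ← mulC_map, ← mulC_map, ← mulC_map]
  ext k
  simp

theorem assoc_eq_zero (c : ι → ι → ι → C)
    (h : ∀ i j k, assoc (mulC c) (Pi.single i 1) (Pi.single j 1) (Pi.single k 1) = 0) :
    ∀ x y z, assoc (mulC c) x y z = 0 := by
  have : assoc (mulC c) = 0 := (Pi.basisFun C ι).ext fun i => (Pi.basisFun C ι).ext fun j =>
    (Pi.basisFun C ι).ext fun k => by simpa using h i j k
  simp [this]

theorem pi_sm {J : Ideal C} {x : ι → C} : Sm J x ↔ ∀ i, x i ∈ J := by
  refine ⟨fun h i => ?_, fun h => ?_⟩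
  · have := map_sm J (LinearMap.proj (R := C) (φ := fun _ : ι => C) i) h
    rwa [Sm, smul_eq_mul, Ideal.mul_top] at this
  · have hx : x = ∑ i, x i • Pi.single i (1 : C) := by ext j; simp [Pi.single_apply]
    rw [Sm, hx]
    exact Submodule.sum_mem _ fun i _ => Submodule.smul_mem_smul (h i) Submodule.mem_top

/-- The matrix of `theta`. -/
def deltaMat (c : ι → ι → ι → C) : Matrix (ι × ι) (ι × ι) C :=
  Matrix.of fun kl ij => mulC c (mulC c (Pi.single ij.1 1) (Pi.single kl.2 1)) (Pi.single ij.2 1) kl.1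

theorem theta_bijective_iff (c : ι → ι → ι → C) :
    Function.Bijective (theta (mulC c)) ↔ IsUnit (deltaMat c).det := by
  let e1 : (ι → C) ⊗[C] (ι → C) ≃ₗ[C] (ι × ι → C) :=
    ((Pi.basisFun C ι).tensorProduct (Pi.basisFun C ι)).equivFun
  let e2 : Module.End C (ι → C) ≃ₗ[C] (ι × ι → C) :=
    (LinearMap.toMatrix' : _ ≃ₗ[C] Matrix ι ι C).trans (LinearEquiv.curry C C ι ι).symm
  have h : e2.toLinearMap.comp (theta (mulC c)) = (Matrix.toLin' (deltaMat c)).comp e1.toLinearMap := by
    refine ((Pi.basisFun C ι).tensorProduct (Pi.basisFun C ι)).ext fun ij => funext fun kl => ?_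
    obtain ⟨i, j⟩ := ij
    obtain ⟨k, l⟩ := kl
    have he1 : e1 (Pi.single i 1 ⊗ₜ Pi.single j 1) = Pi.single (i, j) 1 := by
      have := ((Pi.basisFun C ι).tensorProduct (Pi.basisFun C ι)).equivFun_self (i, j)
      rw [Module.Basis.tensorProduct_apply, Pi.basisFun_apply, Pi.basisFun_apply] at this
      funext q
      refine (this q).trans ?_
      simp [Pi.single_apply, eq_comm]
    simp [he1, e2, deltaMat, LinearMap.toMatrix'_apply, Matrix.mulVec_single]
    show LinearMap.toMatrix' (theta (mulC c) (Pi.single i 1 ⊗ₜ[C] Pi.single j 1)) k l = _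
    simp [LinearMap.toMatrix'_apply]
  have h' : ⇑e2 ∘ ⇑(theta (mulC c)) = (deltaMat c).mulVec ∘ ⇑e1 := funext fun x => LinearMap.congr_fun h x
  rw [← Matrix.isUnit_iff_isUnit_det, ← mulVec_bijective_iff,
    ← Function.Bijective.of_comp_iff' e2.bijective, h',
    Function.Bijective.of_comp_iff _ e1.bijective]

/-- The matrices of left and right multiplication by `v`. -/
def lMat (v : ι → C) (c : ι → ι → ι → C) : Matrix ι ι C := LinearMap.toMatrix' (mulC c v)
def rMat (v : ι → C) (c : ι → ι → ι → C) : Matrix ι ι C := LinearMap.toMatrix' ((mulC c).flip v)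

/-- The discriminant: invertible exactly for separable structures in which `v` is invertible. -/
def dd (v : ι → C) (c : ι → ι → ι → C) : C := (deltaMat c).det * ((lMat v c).det * (rMat v c).det)

theorem lin_bijective_iff (f : (ι → C) →ₗ[C] (ι → C)) :
    Function.Bijective f ↔ IsUnit (LinearMap.toMatrix' f).det := by
  rw [← Matrix.isUnit_iff_isUnit_det, ← mulVec_bijective_iff,
    ← Matrix.coe_mulVecLin, ← Matrix.toLin'_apply', Matrix.toLin'_toMatrix']

theorem dd_isUnit_iff (v : ι → C) (c : ι → ι → ι → C) :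
    IsUnit (dd v c) ↔ Function.Bijective (theta (mulC c)) ∧ Function.Bijective (mulC c v) ∧
      Function.Bijective ((mulC c).flip v) := by
  rw [dd, IsUnit.mul_iff, IsUnit.mul_iff, theta_bijective_iff, lin_bijective_iff, lin_bijective_iff]
  rfl

theorem dd_map (φ : C →+* D) (v : ι → C) (c : ι → ι → ι → C) :
    φ (dd v c) = dd (φ ∘ v) (fun i j k => φ (c i j k)) := by
  have h1 : (deltaMat c).map φ = deltaMat fun i j k => φ (c i j k) := by
    ext ⟨k, l⟩ ⟨i, j⟩
    have := congrFun (mulC_map φ c (mulC c (Pi.single i 1) (Pi.single l 1)) (Pi.single j 1)) k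
    rw [mulC_map φ c (Pi.single i 1) (Pi.single l 1), comp_single, comp_single, comp_single] at this
    simpa [deltaMat] using this
  have h2 : (lMat v c).map φ = lMat (φ ∘ v) fun i j k => φ (c i j k) := by
    ext k j
    have := congrFun (mulC_map φ c v (Pi.single j 1)) k
    rw [comp_single] at this
    simpa [lMat, LinearMap.toMatrix'_apply] using this
  have h3 : (rMat v c).map φ = rMat (φ ∘ v) fun i j k => φ (c i j k) := by
    ext k j
    have := congrFun (mulC_map φ c (Pi.single j 1) v) k
    rw [comp_single] at this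
    simpa [rMat, LinearMap.toMatrix'_apply] using this
  rw [dd, dd, map_mul, map_mul, RingHom.map_det, RingHom.map_det, RingHom.map_det,
    RingHom.mapMatrix_apply, RingHom.mapMatrix_apply, RingHom.mapMatrix_apply, h1, h2, h3]

theorem exists_unit {c : ι → ι → ι → C} {v : ι → C} (ha : ∀ x y z, assoc (mulC c) x y z = 0)
    (hl : Function.Bijective (mulC c v)) (hr : Function.Bijective ((mulC c).flip v)) :
    ∃ u, (∀ x, mulC c u x = x) ∧ ∀ x, mulC c x u = x := by
  obtain ⟨u, hu⟩ := hl.2 v
  have ha' : ∀ x y z, mulC c (mulC c x y) z = mulC c x (mulC c y z) := fun x y z => sub_eq_zero.mp (ha x y z)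
  refine ⟨u, fun x => hl.1 ?_, fun x => ?_⟩
  · rw [← ha', hu]
  · obtain ⟨y, rfl⟩ := hr.2 x
    rw [LinearMap.flip_apply, ha', hu]

section Struct

variable {R : Type u} [CommRing R] (v : ι → R)

/-- Associativity equations. -/
noncomputable def assocIdeal (R : Type u) [CommRing R] : Ideal (MvPolynomial (ι × ι × ι) R) :=
  Ideal.span (Set.range fun q : ι × ι × ι × ι =>
    assoc (mulC fun i j k => MvPolynomial.X (R := R) (i, j, k))
      (Pi.single q.1 1) (Pi.single q.2.1 1) (Pi.single q.2.2.1 1) q.2.2.2)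

/-- The universal structure constants of an associative product. -/
noncomputable def cQ (R : Type u) [CommRing R] :
    ι → ι → ι → MvPolynomial (ι × ι × ι) R ⧸ assocIdeal (ι := ι) R :=
  fun i j k => Ideal.Quotient.mk _ (MvPolynomial.X (i, j, k))

/-- The universal ring of separable algebra structures. -/
abbrev StructRing : Type u :=
  Localization.Away (dd (fun i => algebraMap R (MvPolynomial (ι × ι × ι) R ⧸ assocIdeal (ι := ι) R) (v i))
    (cQ R))

theorem exists_structHom {A : Type u} [CommRing A] [Algebra R A] (c : ι → ι → ι → A)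
    (ha : ∀ x y z, assoc (mulC c) x y z = 0) (hd : IsUnit (dd (fun i => algebraMap R A (v i)) c)) :
    ∃ f : StructRing v →ₐ[R] A, ∀ i j k, f (algebraMap _ _ (cQ R i j k)) = c i j k := by
  let f0 : MvPolynomial (ι × ι × ι) R →ₐ[R] A := MvPolynomial.aeval fun q => c q.1 q.2.1 q.2.2
  have hI : ∀ a ∈ assocIdeal (ι := ι) R, f0 a = 0 := by
    intro a ha'
    refine (Ideal.span_le (I := RingHom.ker f0)).mpr ?_ ha'
    rintro _ ⟨⟨i, j, k, l⟩, rfl⟩
    show f0.toRingHom _ = 0
    have := congrFun (assoc_map f0.toRingHom (fun i j k => MvPolynomial.X (R := R) (i, j, k))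
      (Pi.single i 1) (Pi.single j 1) (Pi.single k 1)) l
    rw [comp_single, comp_single, comp_single] at this
    refine this.trans ?_
    have hc : (fun i j k => f0.toRingHom (MvPolynomial.X (R := R) (i, j, k))) = c := by
      funext i j k; simp [f0]
    rw [hc, ha]
    rfl
  let f1 := Ideal.Quotient.liftₐ _ f0 hI
  have hc1 : ∀ i j k, f1 (cQ R i j k) = c i j k := fun i j k =>
    (Ideal.Quotient.liftₐ_apply _ _ _ _).trans (by simp [cQ, f0])
  have hu : IsUnit (f1.toRingHom (dd (fun i => algebraMap R (MvPolynomial (ι × ι × ι) R ⧸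
      assocIdeal (ι := ι) R) (v i)) (cQ R))) := by
    rw [dd_map]
    convert hd using 2
    · funext i; simp
    · funext i j k; exact hc1 i j k
  refine ⟨IsLocalization.liftAlgHom (M := Submonoid.powers (dd (fun i => algebraMap R
    (MvPolynomial (ι × ι × ι) R ⧸ assocIdeal (ι := ι) R) (v i)) (cQ R))) (f := f1) ?_, fun i j k => ?_⟩
  · rintro ⟨_, n, rfl⟩
    simpa using hu.pow n
  · rw [IsLocalization.liftAlgHom_apply, IsLocalization.lift_eq]
    exact hc1 i j k

theorem structRing_smooth [Nonempty ι] : Algebra.Smooth R (StructRing v) := by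
  haveI : Algebra.FinitePresentation R (MvPolynomial (ι × ι × ι) R ⧸ assocIdeal (ι := ι) R) :=
    Algebra.FinitePresentation.quotient (Submodule.fg_span (Set.finite_range _))
  haveI : Algebra.FinitePresentation (MvPolynomial (ι × ι × ι) R ⧸ assocIdeal (ι := ι) R) (StructRing v) :=
    IsLocalization.Away.finitePresentation (dd (fun i => algebraMap R _ (v i)) (cQ R))
  refine ⟨Algebra.FormallySmooth.of_comp_surjective fun B _ _ J hJ f => ?_,
    Algebra.FinitePresentation.trans R (MvPolynomial (ι × ι × ι) R ⧸ assocIdeal (ι := ι) R) (StructRing v)⟩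
  classical
  have hJ' : J * J = ⊥ := by rw [← sq]; exact hJ
  let q : MvPolynomial (ι × ι × ι) R ⧸ assocIdeal (ι := ι) R →ₐ[R] B ⧸ J :=
    f.comp (IsScalarTower.toAlgHom R _ _)
  choose c hc using fun i j k => Ideal.Quotient.mk_surjective (q (cQ R i j k))
  have hmap : (fun i j k => Ideal.Quotient.mk J (c i j k)) = fun i j k => q.toRingHom (cQ R i j k) := by
    funext i j k; exact hc i j k
  have hass : ∀ x y z, Sm J (assoc (mulC c) x y z) := by
    intro x y z
    rw [pi_sm]
    intro l
    rw [← Ideal.Quotient.eq_zero_iff_mem]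
    have := congrFun (assoc_map (Ideal.Quotient.mk J) c x y z) l
    refine this.trans ?_
    rw [hmap]
    have hzero : ∀ a b e, assoc (mulC (cQ (ι := ι) R)) a b e = 0 := by
      refine assoc_eq_zero _ fun i j k => funext fun l => ?_
      have := congrFun (assoc_map (Ideal.Quotient.mk (assocIdeal (ι := ι) R))
        (fun i j k => MvPolynomial.X (R := R) (i, j, k)) (Pi.single i 1) (Pi.single j 1) (Pi.single k 1)) l
      rw [comp_single, comp_single, comp_single] at this
      refine this.symm.trans ?_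
      rw [Pi.zero_apply, Function.comp_apply, Ideal.Quotient.eq_zero_iff_mem]
      exact Ideal.subset_span ⟨(i, j, k, l), rfl⟩
    have h2 := assoc_eq_zero (fun i j k => q.toRingHom (cQ R i j k)) (fun i j k => by
      have := assoc_map q.toRingHom (cQ (ι := ι) R) (Pi.single i 1) (Pi.single j 1) (Pi.single k 1)
      rw [comp_single, comp_single, comp_single, hzero] at this
      refine this.symm.trans ?_
      ext l; simp)
    exact congrFun (h2 _ _ _) l
  let vB : ι → B := fun i => algebraMap R B (v i)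
  have hvq : (Ideal.Quotient.mk J) ∘ vB = q.toRingHom ∘ fun i => algebraMap R _ (v i) := by
    funext i; simp [vB]
  have hdq : IsUnit (Ideal.Quotient.mk J (dd vB c)) := by
    rw [dd_map, hvq, hmap, ← dd_map]
    exact (IsLocalization.Away.algebraMap_isUnit (S := StructRing v) _).map f
  have hlift : ∀ b : B, IsUnit (Ideal.Quotient.mk J b) → IsUnit b := by
    intro b hb
    obtain ⟨a, ha⟩ := hb.exists_right_inv
    obtain ⟨a, rfl⟩ := Ideal.Quotient.mk_surjective a
    rw [← map_mul, ← map_one (Ideal.Quotient.mk J), Ideal.Quotient.eq] at ha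
    have hnil : IsNilpotent (b * a - 1) := ⟨2, by
      have := Ideal.pow_mem_pow ha 2
      rwa [hJ, Ideal.mem_bot] at this⟩
    have := hnil.isUnit_add_one
    rw [sub_add_cancel] at this
    exact isUnit_of_mul_isUnit_left this
  obtain ⟨hθ, hl, hr⟩ := (dd_isUnit_iff vB c).mp (hlift _ hdq)
  obtain ⟨S⟩ := exists_sepData J (Pi.basisFun B ι) (mulC c) hass hθ vB hl hr
  obtain ⟨h, hh, hassoc⟩ := exists_assoc J hJ' (mulC c) hass S
  let c' : ι → ι → ι → B := fun i j => (mulC c + h) (Pi.single i 1) (Pi.single j 1)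
  have hc' : (fun i j k => Ideal.Quotient.mk J (c' i j k)) = fun i j k => q.toRingHom (cQ R i j k) := by
    rw [← hmap]
    funext i j k
    rw [Ideal.Quotient.eq]
    simpa [c'] using (pi_sm.mp (hh (Pi.single i 1) (Pi.single j 1))) k
  obtain ⟨g, hg⟩ := exists_structHom v c' (by rw [eq_mulC]; exact hassoc) (hlift _ (by
    rw [dd_map, hc']
    rw [hvq, ← dd_map]
    exact (IsLocalization.Away.algebraMap_isUnit (S := StructRing v) _).map f))
  refine ⟨g, IsLocalization.algHom_ext (Submonoid.powers (dd (fun i => algebraMap R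
    (MvPolynomial (ι × ι × ι) R ⧸ assocIdeal (ι := ι) R) (v i)) (cQ R))) ?_⟩
  apply Ideal.Quotient.algHom_ext
  apply MvPolynomial.algHom_ext
  rintro ⟨i, j, k⟩
  show Ideal.Quotient.mk J (g (algebraMap _ _ (cQ R i j k))) = _
  rw [hg]
  exact congrFun (congrFun (congrFun hc' i) j) k

/-- Separable structures lift over a henselian local ring. -/
theorem exists_struct_lift [HenselianLocalRing R] [Nonempty ι]
    (c₀ : ι → ι → ι → IsLocalRing.ResidueField R) (ha : ∀ x y z, assoc (mulC c₀) x y z = 0)
    (hd : IsUnit (dd (IsLocalRing.residue R ∘ v) c₀)) :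
    ∃ c : ι → ι → ι → R, (∀ x y z, assoc (mulC c) x y z = 0) ∧ IsUnit (dd v c) ∧
      ∀ i j k, IsLocalRing.residue R (c i j k) = c₀ i j k := by
  haveI : HenselianRing R (IsLocalRing.maximalIdeal R) := Groth.Agent.Hensel.henselianRing_maximalIdeal_iff.2 inferInstance
  haveI := structRing_smooth v
  obtain ⟨s, hs⟩ := exists_structHom v (A := IsLocalRing.ResidueField R) c₀ ha hd
  obtain ⟨τ, hτ⟩ := Groth.Agent.Hensel.exists_lift_of_smooth (I := IsLocalRing.maximalIdeal R) s
  let q : MvPolynomial (ι × ι × ι) R ⧸ assocIdeal (ι := ι) R →ₐ[R] R :=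
    τ.comp (IsScalarTower.toAlgHom R _ _)
  refine ⟨fun i j k => q (cQ R i j k), assoc_eq_zero _ fun i j k => ?_, ?_, fun i j k => ?_⟩
  · funext l
    have := congrFun (assoc_map (q.toRingHom.comp (Ideal.Quotient.mk (assocIdeal (ι := ι) R)))
      (fun i j k => MvPolynomial.X (R := R) (i, j, k)) (Pi.single i 1) (Pi.single j 1) (Pi.single k 1)) l
    rw [comp_single, comp_single, comp_single] at this
    refine this.symm.trans ?_
    show q.toRingHom (Ideal.Quotient.mk (assocIdeal (ι := ι) R) _) = 0
    have hz : Ideal.Quotient.mk (assocIdeal (ι := ι) R)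
        (assoc (mulC fun i j k => MvPolynomial.X (R := R) (i, j, k)) (Pi.single i 1) (Pi.single j 1)
          (Pi.single k 1) l) = 0 :=
      Ideal.Quotient.eq_zero_iff_mem.mpr (Ideal.subset_span ⟨(i, j, k, l), rfl⟩)
    exact (congrArg q.toRingHom hz).trans (map_zero _)
  · have h1 := (IsLocalization.Away.algebraMap_isUnit (S := StructRing v)
      (dd (fun i => algebraMap R (MvPolynomial (ι × ι × ι) R ⧸ assocIdeal (ι := ι) R) (v i)) (cQ R))).map τ
    have h2 : IsUnit (q.toRingHom (dd (fun i => algebraMap R _ (v i)) (cQ (ι := ι) R))) := h1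
    rw [dd_map] at h2
    convert h2 using 2
    · funext i; simp
    · funext i j k; rfl
  · rw [← hs i j k, ← hτ]
    rfl

end Struct

section Hom

variable {R : Type u} [CommRing R] (c d : ι → ι → ι → R)

/-- Multiplicativity of the linear map with matrix `G`. -/
def mulDef {A : Type u} [CommRing A] [Algebra R A] (G : Matrix ι ι A) (x y : ι → A) : ι → A :=
  G.mulVec (mulC (fun i j k => algebraMap R A (c i j k)) x y) -
    mulC (fun i j k => algebraMap R A (d i j k)) (G.mulVec x) (G.mulVec y)

theorem mulDef_map {A B : Type u} [CommRing A] [Algebra R A] [CommRing B] [Algebra R B] (φ : A →ₐ[R] B)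
    (G : Matrix ι ι A) (x y : ι → A) :
    φ ∘ mulDef c d G x y = mulDef c d (G.map φ) (φ ∘ x) (φ ∘ y) := by
  have hmv : ∀ (H : Matrix ι ι A) (z : ι → A), φ ∘ H.mulVec z = (H.map φ).mulVec (φ ∘ z) := fun H z =>
    funext fun i => RingHom.map_mulVec φ.toRingHom H z i
  have hm : ∀ (e : ι → ι → ι → R) (z w : ι → A),
      φ ∘ mulC (fun i j k => algebraMap R A (e i j k)) z w =
        mulC (fun i j k => algebraMap R B (e i j k)) (φ ∘ z) (φ ∘ w) := fun e z w => by
    refine (mulC_map φ.toRingHom _ z w).trans ?_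
    simp only [AlgHom.toRingHom_eq_coe, RingHom.coe_coe, AlgHom.commutes]
  funext k
  rw [mulDef, mulDef, ← hmv G x, ← hmv G y, ← hm d, ← hm c, ← hmv]
  simp

theorem mulDef_eq_zero {A : Type u} [CommRing A] [Algebra R A] (G : Matrix ι ι A)
    (h : ∀ i j, mulDef c d G (Pi.single i 1) (Pi.single j 1) = 0) : ∀ x y, mulDef c d G x y = 0 := by
  intro x y
  have : (mulC fun i j k => algebraMap R A (c i j k)).compr₂ (Matrix.mulVecLin G) =
      (mulC fun i j k => algebraMap R A (d i j k)).compl₁₂ (Matrix.mulVecLin G) (Matrix.mulVecLin G) :=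
    (Pi.basisFun A ι).ext fun i => (Pi.basisFun A ι).ext fun j => by
      have := h i j
      rw [mulDef, sub_eq_zero] at this
      simpa using this
  exact sub_eq_zero.mpr (LinearMap.congr_fun (LinearMap.congr_fun this x) y)

/-- Equations of multiplicative maps. -/
noncomputable def homIdeal : Ideal (MvPolynomial (ι × ι) R) :=
  Ideal.span (Set.range fun q : ι × ι × ι =>
    mulDef c d (Matrix.of fun a b => MvPolynomial.X (R := R) (a, b)) (Pi.single q.1 1) (Pi.single q.2.1 1) q.2.2)

/-- The universal multiplicative matrix. -/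
noncomputable def gQ : Matrix ι ι (MvPolynomial (ι × ι) R ⧸ homIdeal c d) :=
  Matrix.of fun a b => Ideal.Quotient.mk _ (MvPolynomial.X (a, b))

/-- The universal ring of isomorphisms. -/
abbrev HomRing : Type u := Localization.Away (gQ c d).det

theorem comp_single' {A B : Type u} [CommRing A] [Algebra R A] [CommRing B] [Algebra R B] (φ : A →ₐ[R] B)
    (i : ι) : φ ∘ (Pi.single i (1 : A) : ι → A) = Pi.single i 1 := comp_single φ.toRingHom i

theorem gQ_mulDef : ∀ x y, mulDef c d (gQ c d) x y = 0 := by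
  refine mulDef_eq_zero c d _ fun i j => funext fun l => ?_
  have := congrFun (mulDef_map c d (Ideal.Quotient.mkₐ R (homIdeal c d))
    (Matrix.of fun a b => MvPolynomial.X (R := R) (a, b)) (Pi.single i 1) (Pi.single j 1)) l
  rw [comp_single', comp_single'] at this
  refine this.symm.trans ?_
  rw [Function.comp_apply, Pi.zero_apply, Ideal.Quotient.mkₐ_eq_mk, Ideal.Quotient.eq_zero_iff_mem]
  exact Ideal.subset_span ⟨(i, j, l), rfl⟩

theorem exists_homHom {A : Type u} [CommRing A] [Algebra R A] (G : Matrix ι ι A)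
    (hm : ∀ x y, mulDef c d G x y = 0) (hd : IsUnit G.det) :
    ∃ f : HomRing c d →ₐ[R] A, ∀ a b, f (algebraMap _ _ (gQ c d a b)) = G a b := by
  let f0 : MvPolynomial (ι × ι) R →ₐ[R] A := MvPolynomial.aeval fun q => G q.1 q.2
  have hI : ∀ a ∈ homIdeal c d, f0 a = 0 := by
    intro a ha'
    refine (Ideal.span_le (I := RingHom.ker f0)).mpr ?_ ha'
    rintro _ ⟨⟨i, j, l⟩, rfl⟩
    show f0 _ = 0
    have := congrFun (mulDef_map c d f0 (Matrix.of fun a b => MvPolynomial.X (R := R) (a, b))
      (Pi.single i 1) (Pi.single j 1)) l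
    rw [comp_single', comp_single'] at this
    refine this.trans ?_
    have : (Matrix.of fun a b => MvPolynomial.X (R := R) (a, b)).map f0 = G := by
      ext a b; simp [f0]
    rw [this, hm]
    rfl
  let f1 := Ideal.Quotient.liftₐ _ f0 hI
  have hG : f1.toRingHom.mapMatrix (gQ c d) = G := by
    ext a b
    show f1 (Ideal.Quotient.mk (homIdeal c d) (MvPolynomial.X (a, b))) = G a b
    exact (Ideal.Quotient.lift_mk _ _ _).trans (by simp [f0])
  have hu : IsUnit (f1 (gQ c d).det) := by
    show IsUnit (f1.toRingHom _)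
    rwa [RingHom.map_det, hG]
  refine ⟨IsLocalization.liftAlgHom (M := Submonoid.powers (gQ c d).det) (f := f1) ?_, fun a b => ?_⟩
  · rintro ⟨_, n, rfl⟩
    simpa using hu.pow n
  · rw [IsLocalization.liftAlgHom_apply, IsLocalization.lift_eq]
    exact congrFun (congrFun hG a) b

theorem homRing_smooth [Nonempty ι] (v : ι → R) (hv : IsUnit (dd v c))
    (hc : ∀ x y z, assoc (mulC c) x y z = 0) (hd : ∀ x y z, assoc (mulC d) x y z = 0) :
    Algebra.Smooth R (HomRing c d) := by
  haveI : Algebra.FinitePresentation R (MvPolynomial (ι × ι) R ⧸ homIdeal c d) :=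
    Algebra.FinitePresentation.quotient (Submodule.fg_span (Set.finite_range _))
  haveI : Algebra.FinitePresentation (MvPolynomial (ι × ι) R ⧸ homIdeal c d) (HomRing c d) :=
    IsLocalization.Away.finitePresentation (gQ c d).det
  refine ⟨Algebra.FormallySmooth.of_comp_surjective fun B _ _ J hJ f => ?_,
    Algebra.FinitePresentation.trans R (MvPolynomial (ι × ι) R ⧸ homIdeal c d) (HomRing c d)⟩
  classical
  have hJ' : J * J = ⊥ := by rw [← sq]; exact hJ
  have hassB : ∀ e : ι → ι → ι → R, (∀ x y z, assoc (mulC e) x y z = 0) →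
      ∀ x y z, assoc (mulC fun i j k => algebraMap R B (e i j k)) x y z = 0 := by
    intro e he
    refine assoc_eq_zero _ fun i j k => ?_
    have := assoc_map (algebraMap R B) e (Pi.single i 1) (Pi.single j 1) (Pi.single k 1)
    rw [comp_single, comp_single, comp_single, he] at this
    refine this.symm.trans ?_
    ext l; simp
  let cB : ι → ι → ι → B := fun i j k => algebraMap R B (c i j k)
  let dB : ι → ι → ι → B := fun i j k => algebraMap R B (d i j k)
  obtain ⟨hθ, hl, hr⟩ := (dd_isUnit_iff (algebraMap R B ∘ v) cB).mp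
    (dd_map (algebraMap R B) v c ▸ hv.map (algebraMap R B))
  obtain ⟨S⟩ := exists_sepData J (Pi.basisFun B ι) (mulC cB)
    (fun x y z => by rw [hassB c hc]; exact zero_mem _) hθ _ hl hr
  let q : MvPolynomial (ι × ι) R ⧸ homIdeal c d →ₐ[R] B ⧸ J := f.comp (IsScalarTower.toAlgHom R _ _)
  choose G hG using fun a b => Ideal.Quotient.mk_surjective (q (gQ c d a b))
  let G : Matrix ι ι B := Matrix.of G
  have hmap : G.map (Ideal.Quotient.mkₐ R J) = (gQ c d).map q := by
    ext a b; exact hG a b
  have hdetq : IsUnit (((gQ c d).map q).det) := by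
    have := (IsLocalization.Away.algebraMap_isUnit (S := HomRing c d) (gQ c d).det).map f
    rw [show f (algebraMap _ _ (gQ c d).det) = q.toRingHom (gQ c d).det from rfl, RingHom.map_det] at this
    exact this
  have hlift : ∀ b : B, IsUnit (Ideal.Quotient.mk J b) → IsUnit b := by
    intro b hb
    obtain ⟨a, ha⟩ := hb.exists_right_inv
    obtain ⟨a, rfl⟩ := Ideal.Quotient.mk_surjective a
    rw [← map_mul, ← map_one (Ideal.Quotient.mk J), Ideal.Quotient.eq] at ha
    have hnil : IsNilpotent (b * a - 1) := ⟨2, by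
      have := Ideal.pow_mem_pow ha 2
      rwa [hJ, Ideal.mem_bot] at this⟩
    have := hnil.isUnit_add_one
    rw [sub_add_cancel] at this
    exact isUnit_of_mul_isUnit_left this
  have hdetG : ∀ H : Matrix ι ι B, H.map (Ideal.Quotient.mkₐ R J) = (gQ c d).map q → IsUnit H.det := by
    intro H hH
    refine hlift _ ?_
    rw [RingHom.map_det]
    exact (congrArg (IsUnit ∘ Matrix.det) hH).mpr hdetq
  have hmul : ∀ x y, Sm J (mulDef c d G x y) := by
    intro x y
    rw [pi_sm]
    intro l
    rw [← Ideal.Quotient.eq_zero_iff_mem]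
    have := congrFun (mulDef_map c d (Ideal.Quotient.mkₐ R J) G x y) l
    refine this.trans ?_
    rw [hmap]
    refine congrFun (mulDef_eq_zero c d _ (fun i j => ?_) _ _) l
    have := mulDef_map c d q (gQ c d) (Pi.single i 1) (Pi.single j 1)
    rw [comp_single', comp_single', gQ_mulDef] at this
    refine this.symm.trans ?_
    ext l; simp
  have hsurj : Function.Surjective (Matrix.mulVecLin G) :=
    ((mulVec_bijective_iff G).mpr ((Matrix.isUnit_iff_isUnit_det G).mpr (hdetG G hmap))).2
  obtain ⟨h, hh, hhom⟩ := exists_mulHom J hJ' (mulC cB) (mulC dB) (hassB c hc) (hassB d hd) S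
    (Matrix.mulVecLin G) hsurj hmul
  let G' : Matrix ι ι B := LinearMap.toMatrix' (Matrix.mulVecLin G + h)
  have hG' : G'.map (Ideal.Quotient.mkₐ R J) = (gQ c d).map q := by
    rw [← hmap]
    ext a b
    simp only [Matrix.map_apply, Ideal.Quotient.mkₐ_eq_mk, Ideal.Quotient.eq]
    simpa [G', LinearMap.toMatrix'_apply, Matrix.mulVec_single] using pi_sm.mp (hh (Pi.single b 1)) a
  obtain ⟨g, hg⟩ := exists_homHom c d G' (fun x y => by
    have : ∀ z, G'.mulVec z = (Matrix.mulVecLin G + h) z := fun z => by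
      rw [← Matrix.mulVecLin_apply, ← Matrix.toLin'_apply', Matrix.toLin'_toMatrix']
    rw [mulDef, this, this, this, sub_eq_zero]
    exact hhom x y) (hdetG G' hG')
  refine ⟨g, IsLocalization.algHom_ext (Submonoid.powers (gQ c d).det) ?_⟩
  apply Ideal.Quotient.algHom_ext
  apply MvPolynomial.algHom_ext
  rintro ⟨a, b⟩
  show Ideal.Quotient.mk J (g (algebraMap _ _ (gQ c d a b))) = _
  rw [hg]
  exact congrFun (congrFun hG' a) b

/-- Isomorphisms of separable structures lift over a henselian local ring. -/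
theorem exists_hom_lift [HenselianLocalRing R] [Nonempty ι] (v : ι → R) (hv : IsUnit (dd v c))
    (hc : ∀ x y z, assoc (mulC c) x y z = 0) (hd : ∀ x y z, assoc (mulC d) x y z = 0)
    (G₀ : Matrix ι ι (IsLocalRing.ResidueField R)) (hm : ∀ x y, mulDef c d G₀ x y = 0)
    (hG₀ : IsUnit G₀.det) :
    ∃ G : Matrix ι ι R, IsUnit G.det ∧ (∀ x y, G.mulVec (mulC c x y) = mulC d (G.mulVec x) (G.mulVec y)) ∧
      ∀ a b, IsLocalRing.residue R (G a b) = G₀ a b := by
  haveI : HenselianRing R (IsLocalRing.maximalIdeal R) := Groth.Agent.Hensel.henselianRing_maximalIdeal_iff.2 inferInstance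
  haveI := homRing_smooth c d v hv hc hd
  obtain ⟨s, hs⟩ := exists_homHom c d (A := IsLocalRing.ResidueField R) G₀ hm hG₀
  obtain ⟨τ, hτ⟩ := Groth.Agent.Hensel.exists_lift_of_smooth (I := IsLocalRing.maximalIdeal R) s
  let q : MvPolynomial (ι × ι) R ⧸ homIdeal c d →ₐ[R] R := τ.comp (IsScalarTower.toAlgHom R _ _)
  refine ⟨(gQ c d).map q, ?_, fun x y => ?_, fun a b => ?_⟩
  · have h1 := (IsLocalization.Away.algebraMap_isUnit (S := HomRing c d) (gQ c d).det).map τ
    rw [show τ (algebraMap _ _ (gQ c d).det) = q.toRingHom (gQ c d).det from rfl, RingHom.map_det] at h1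
    exact h1
  · have := mulDef_eq_zero c d ((gQ c d).map q) (fun i j => by
      have := mulDef_map c d q (gQ c d) (Pi.single i 1) (Pi.single j 1)
      rw [comp_single', comp_single', gQ_mulDef] at this
      refine this.symm.trans ?_
      ext l; simp) x y
    rw [mulDef, sub_eq_zero] at this
    simpa using this
  · rw [← hs a b, ← hτ]
    rfl

end Hom

end Groth.Agent.AzLiftLib
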