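import Mathlib
import Groth.Agent.AzLiftLib.Univ

/-! Structure constants of algebras with a basis, and the algebra with given structure constants. -/

set_option autoImplicit false
universe u

open TensorProduct

namespace Groth.Agent.AzLiftLib

variable {ι : Type} [Fintype ι] [DecidableEq ι] {C : Type u} [CommRing C]

section Coords

variable {A : Type u} [Ring A] [Algebra C A] (b : Module.Basis ι C A)

/-- Structure constants of an algebra with respect to a basis. -/
noncomputable def constants : ι → ι → ι → C := fun i j => b.equivFun (b i * b j)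

theorem equivFun_single (i : ι) : b.equivFun (b i) = Pi.single i 1 := by
  funext j
  rw [b.equivFun_self]
  by_cases h : i = j
  · subst h; simp
  · simp [h, Ne.symm h]

theorem equivFun_mul (x y : A) :
    b.equivFun (x * y) = mulC (constants b) (b.equivFun x) (b.equivFun y) := by
  have : (LinearMap.mul C A).compr₂ b.equivFun.toLinearMap =
      (mulC (constants b)).compl₁₂ b.equivFun.toLinearMap b.equivFun.toLinearMap :=
    b.ext fun i => b.ext fun j => by
      simp only [LinearMap.compr₂_apply, LinearMap.compl₁₂_apply, LinearEquiv.coe_coe, equivFun_single,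
        mulC_single, LinearMap.mul_apply']
      rfl
  exact LinearMap.congr_fun (LinearMap.congr_fun this x) y

theorem constants_assoc (x y z : ι → C) : assoc (mulC (constants b)) x y z = 0 := by
  obtain ⟨x, rfl⟩ := b.equivFun.surjective x
  obtain ⟨y, rfl⟩ := b.equivFun.surjective y
  obtain ⟨z, rfl⟩ := b.equivFun.surjective z
  simp only [assoc_apply, ← equivFun_mul, mul_assoc, sub_self]

theorem dd_constants_isUnit (h : Function.Bijective (AlgHom.mulLeftRight C A)) :
    IsUnit (dd (b.equivFun 1) (constants b)) := by
  rw [dd_isUnit_iff]
  refine ⟨?_, ?_, ?_⟩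
  · let e1 : A ⊗[C] Aᵐᵒᵖ ≃ₗ[C] (ι → C) ⊗[C] (ι → C) :=
      TensorProduct.congr b.equivFun ((MulOpposite.opLinearEquiv C).symm.trans b.equivFun)
    let e2 : Module.End C A ≃ₗ[C] Module.End C (ι → C) := LinearEquiv.conj b.equivFun
    have hh : (theta (mulC (constants b))).comp e1.toLinearMap =
        e2.toLinearMap.comp (AlgHom.mulLeftRight C A).toLinearMap := by
      apply TensorProduct.ext'
      intro x y
      obtain ⟨y, rfl⟩ : ∃ y', y = MulOpposite.op y' := ⟨y.unop, rfl⟩
      refine LinearMap.ext fun a => ?_
      obtain ⟨a, rfl⟩ := b.equivFun.surjective a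
      simp only [e1, e2, LinearMap.comp_apply, LinearEquiv.coe_coe, TensorProduct.congr_tmul, theta_tmul,
        LinearEquiv.trans_apply, MulOpposite.coe_opLinearEquiv_symm, MulOpposite.unop_op, AlgHom.toLinearMap_apply,
        LinearEquiv.conj_apply, LinearEquiv.symm_apply_apply, AlgHom.mulLeftRight_apply, equivFun_mul]
    have hf : ⇑(theta (mulC (constants b))) ∘ ⇑e1 = ⇑e2 ∘ ⇑(AlgHom.mulLeftRight C A) :=
      funext fun z => LinearMap.congr_fun hh z
    rw [← Function.Bijective.of_comp_iff _ e1.bijective, hf]
    exact e2.bijective.comp h
  · convert Function.bijective_id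
    funext x
    obtain ⟨x, rfl⟩ := b.equivFun.surjective x
    rw [← equivFun_mul, one_mul, id]
  · convert Function.bijective_id
    funext x
    obtain ⟨x, rfl⟩ := b.equivFun.surjective x
    rw [LinearMap.flip_apply, ← equivFun_mul, mul_one, id]

end Coords

/-- Structure constants of a unital associative algebra. -/
structure StrData (C : Type u) [CommRing C] (ι : Type) [Fintype ι] [DecidableEq ι] where
  c : ι → ι → ι → C
  one : ι → C
  assoc' : ∀ x y z, mulC c (mulC c x y) z = mulC c x (mulC c y z)
  one_mul' : ∀ x, mulC c one x = x
  mul_one' : ∀ x, mulC c x one = x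

/-- The algebra with given structure constants. -/
def StrAlg (_S : StrData C ι) : Type u := ι → C

namespace StrAlg

variable (S : StrData C ι)

instance : AddCommGroup (StrAlg S) := inferInstanceAs (AddCommGroup (ι → C))
instance : Module C (StrAlg S) := inferInstanceAs (Module C (ι → C))

/-- The underlying coordinates. -/
def equiv : StrAlg S ≃ₗ[C] (ι → C) := LinearEquiv.refl C _

instance ring : Ring (StrAlg S) :=
  { (inferInstance : AddCommGroup (StrAlg S)) with
    mul := fun x y => mulC S.c x y
    one := S.one
    left_distrib := fun x y z => map_add (mulC S.c x) y z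
    right_distrib := fun x y z => LinearMap.congr_fun (map_add (mulC S.c) x y) z
    zero_mul := fun x => LinearMap.congr_fun (map_zero (mulC S.c)) x
    mul_zero := fun x => map_zero (mulC S.c x)
    mul_assoc := S.assoc'
    one_mul := S.one_mul'
    mul_one := S.mul_one' }

theorem mul_def (x y : StrAlg S) : x * y = mulC S.c x y := rfl

instance : Algebra C (StrAlg S) :=
  Algebra.ofModule (fun r x y => LinearMap.congr_fun (map_smul (mulC S.c) r x) y)
    (fun r x y => map_smul (mulC S.c x) r y)

/-- The standard basis. -/
noncomputable def basis : Module.Basis ι C (StrAlg S) := Module.Basis.ofEquivFun (equiv S)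

theorem constants_basis : constants (basis S) = S.c := by
  funext i j
  show mulC S.c (basis S i) (basis S j) = S.c i j
  simp [basis, equiv, Module.Basis.coe_ofEquivFun]
  exact mulC_single S.c i j

end StrAlg

end Groth.Agent.AzLiftLib
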